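import Groth.Agent.Lib.ProjKoszul.Chase
import Groth.Agent.Lib.ProjCoh.DualityCM
import Groth.Agent.Lib.PosLin.CohBound

/-!
# Duality up to an error along an exact complex

If `(ω, t)` is dualizing in degree `0` and the terms of a bounded exact complex have `H^q` (`q < n`) and
`Ext^q(-, ω)` (`q > 0`) of dimension at most `e`, then on its cycles `dim Ext^j(-, ω)` and `dim H^{n-j}`
differ by at most a multiple of `e`.
-/

set_option autoImplicit false
set_option linter.style.haveILetI false
set_option linter.unusedSectionVars false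
universe u

open CategoryTheory CategoryTheory.Limits AlgebraicGeometry

noncomputable section

namespace Groth.Agent.Lib.DualAsymp96

open CategoryTheory.Abelian
open Groth.Agent.Lib Groth.Agent.Lib.PosLin.CohBound Groth.Agent.Lib.ProjCoh
open Groth.Agent.Lib.Curves.LES (mapK δK exactK₁ exactK₂ exactK₃)

section Lin

variable {k : Type u} [Field k] {U V W : Type*} [AddCommGroup U] [Module k U] [AddCommGroup V]
  [Module k V] [AddCommGroup W] [Module k W] {f : U →ₗ[k] V} {g : V →ₗ[k] W}

theorem finite_of_exact (h : Function.Exact f g) [Module.Finite k U] [Module.Finite k W] :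
    Module.Finite k V :=
  have : Module.Finite k (LinearMap.ker g) := by
    rw [LinearMap.exact_iff.mp h]; exact Module.Finite.range f
  have : Module.Finite k (V ⧸ LinearMap.ker g) := Module.Finite.equiv g.quotKerEquivRange.symm
  Module.Finite.of_submodule_quotient (LinearMap.ker g)

/-- The middle of an exact sequence with known first map. -/
theorem finrank_mid [Module.Finite k V] (h : Function.Exact f g) :
    Module.finrank k V = Module.finrank k (LinearMap.range f) + Module.finrank k (LinearMap.range g) := by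
  rw [← LinearMap.finrank_range_add_finrank_ker g, LinearMap.exact_iff.mp h, add_comm]

end Lin

variable {k : Type u} [Field k] {X : Scheme.{u}} [X.Over (Spec (CommRingCat.of k))]
  [IsProper (X ↘ Spec (CommRingCat.of k))] [HasExt.{u} X.Modules] {n : ℕ} {ω : X.Modules}

/-- `dim Ext^q(M, ω)`. -/
abbrev ed (k : Type u) [Field k] {X : Scheme.{u}} [X.Over (Spec (CommRingCat.of k))] [HasExt.{u} X.Modules]
    (ω M : X.Modules) (q : ℕ) : ℕ :=
  Module.finrank k (Ext.{u} M ω q)

variable (k n ω) in
/-- `H^q` for `q < n` and `Ext^q(-, ω)` for `q > 0` have dimension at most `e`. -/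
def Small (e : ℕ) (M : X.Modules) : Prop :=
  Coh.IsCoh M ∧ (∀ q, q < n → hd k X M q ≤ e) ∧
    ∀ q, q ≠ 0 → Module.Finite k (Ext.{u} M ω q) ∧ ed k ω M q ≤ e

variable (k n ω) in
/-- Duality up to `e`. -/
def Dual' (e : ℕ) (M : X.Modules) : Prop :=
  ∀ j, j ≤ n → Module.Finite k (Ext.{u} M ω j) ∧
    ed k ω M j ≤ hd k X M (n - j) + e ∧ hd k X M (n - j) ≤ ed k ω M j + e

theorem subsingleton_ext_isZero {M : X.Modules} (h : IsZero M) (q : ℕ) :
    Subsingleton (Ext.{u} M ω q) := by
  refine subsingleton_of_forall_eq 0 fun x => ?_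
  rw [← Ext.mk₀_id_comp x, h.eq_of_src (𝟙 M) 0, Ext.mk₀_zero, Ext.zero_comp]

variable {t : Coh.HH X ω n →ₗ[k] k}

theorem finite_ext_zero (hd' : DualityCM.IsDualizing ω t) (M : X.Modules) (hM : Coh.IsCoh M) :
    Module.Finite k (Ext.{u} M ω 0) :=
  haveI := Curves.GlobalSections.isNoetherian_of_proper k X
  haveI := Snapper.Finite.cohFinite k X _ hM n
  Module.Finite.equiv (DualityCM.θ hd' M hM).symm

theorem ed_zero (hd' : DualityCM.IsDualizing ω t) (M : X.Modules) (hM : Coh.IsCoh M) :
    ed k ω M 0 = hd k X M n :=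
  (DualityCM.θ hd' M hM).finrank_eq.trans Subspace.dual_finrank_eq

theorem dual'_of_isZero {M : X.Modules} (h : IsZero M) (e : ℕ) : Dual' k n ω e M := fun j _ => by
  haveI := subsingleton_ext_isZero (ω := ω) h j
  haveI := PosLin.CohBound.subsingleton_HH_isZero (k := k) h (n - j)
  simp [ed, hd, Module.finrank_zero_of_subsingleton]
  exact Module.Finite.of_finite

variable {S : ShortComplex X.Modules}

set_option maxHeartbeats 800000 in
/-- One step. -/
theorem dual'_step (hd' : DualityCM.IsDualizing ω t) (hS : S.ShortExact) (h1 : Coh.IsCoh S.X₁)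
    (h3 : Coh.IsCoh S.X₃) {a e : ℕ} (h : Dual' k n ω a S.X₁) (h2 : Small k n ω e S.X₂) :
    Dual' k n ω (a + 2 * e) S.X₃ := by
  haveI := Curves.GlobalSections.isNoetherian_of_proper k X
  obtain ⟨h2c, h2h, h2e⟩ := h2
  intro j hj
  rcases j with _ | j
  · refine ⟨finite_ext_zero hd' _ h3, ?_⟩
    rw [ed_zero hd' _ h3, Nat.sub_zero]
    exact ⟨Nat.le_add_right _ _, Nat.le_add_right _ _⟩
  obtain ⟨hfin1, hle, hge⟩ := h j (by omega)
  obtain ⟨hfin2, he2⟩ := h2e (j + 1) j.succ_ne_zero
  set q := n - (j + 1) with hq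
  have hq1 : n - j = q + 1 := by omega
  haveI := Snapper.Finite.cohFinite k X _ h1 (q + 1)
  haveI := Snapper.Finite.cohFinite k X _ h2c (q + 1)
  haveI := Snapper.Finite.cohFinite k X _ h2c q
  haveI := Snapper.Finite.cohFinite k X _ h3 q
  haveI := hfin1
  haveI := hfin2
  let d := SerreDual.pre k hS.extClass ω (Nat.add_comm 1 j)
  have hex1 := SerreDual.exact_pre₁ k hS ω (Nat.add_comm 1 j)
  have hex3 := SerreDual.exact_pre₃ k hS ω (Nat.add_comm 1 j)
  haveI : Module.Finite k (Ext.{u} S.X₃ ω (j + 1)) := finite_of_exact hex3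
  have hA := finrank_mid hex3
  have hB := finrank_mid hex1
  have hg2 := LinearMap.finrank_range_le (SerreDual.pre k (Ext.mk₀ S.g) ω (zero_add (j + 1)))
  have hg2' := (Submodule.finrank_le
    (LinearMap.range (SerreDual.pre k (Ext.mk₀ S.g) ω (zero_add (j + 1))))).trans he2
  have hC := finrank_mid (exactK₃ k hS q (q + 1) rfl)
  have hD := finrank_mid (exactK₁ k hS q (q + 1) rfl)
  have hq2 := (LinearMap.finrank_range_le (mapK k S.g q)).trans (h2h q (by omega))
  rw [hq1] at hle hge
  refine ⟨inferInstance, ?_⟩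
  rcases Nat.eq_zero_or_pos j with rfl | hj0
  · -- the first step compares the ranks of adjoint maps
    have hqn : q + 1 = n := by omega
    have hr : Module.finrank k (LinearMap.range (SerreDual.pre k (Ext.mk₀ S.f) ω (zero_add 0))) =
        Module.finrank k (LinearMap.range (mapK k S.f (q + 1))) := by
      have e1 : (DualityCM.θ hd' S.X₁ h1).toLinearMap ∘ₗ SerreDual.pre k (Ext.mk₀ S.f) ω (zero_add 0) =
          (mapK k S.f n).dualMap ∘ₗ (DualityCM.θ hd' S.X₂ h2c).toLinearMap :=
        LinearMap.ext fun x => DualityCM.θ_natural hd' h1 h2c S.f x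
      have e2 := congrArg LinearMap.range e1
      rw [LinearMap.range_comp, LinearMap.range_comp, LinearEquiv.range, Submodule.map_top] at e2
      rw [hqn, ← LinearMap.finrank_range_dualMap_eq_finrank_range (mapK k S.f n), ← e2]
      exact ((DualityCM.θ hd' S.X₁ h1).submoduleMap _).finrank_eq
    have h0 := ed_zero hd' S.X₁ h1
    simp only [ed] at hle hge hA hB h0 ⊢
    change Module.finrank k _ ≤ Module.finrank k _ + _ ∧ Module.finrank k _ ≤ Module.finrank k _ + _
    simp only [hd] at *
    rw [← hqn] at h0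
    omega
  · obtain ⟨hfin0, he0⟩ := h2e j hj0.ne'
    haveI := hfin0
    have hf1 := LinearMap.finrank_range_le (SerreDual.pre k (Ext.mk₀ S.f) ω (zero_add j))
    have hf1' := hf1.trans he0
    have hq3 := (Submodule.finrank_le (LinearMap.range (mapK k S.f (q + 1)))).trans
      (le_refl _)
    have hq4 := (Submodule.finrank_le (LinearMap.range (δK k hS q (q + 1) rfl)))
    have hq5 : Module.finrank k (LinearMap.range (mapK k S.f (q + 1))) ≤ e :=
      (Submodule.finrank_le _).trans (h2h (q + 1) (by omega))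
    simp only [ed, hd] at *
    omega

/-- **Duality up to an error on the cycles of an exact complex.** -/
theorem dual'_cycles (hd' : DualityCM.IsDualizing ω t) (K : CochainComplex X.Modules ℤ)
    (hK : ∀ i, K.ExactAt i) (hcoh : ∀ i, Coh.IsCoh (K.X i)) {e : ℕ}
    (hsmall : ∀ i, i < 0 → Small k n ω e (K.X i)) (N : ℤ) (hN : ∀ i, i < N → IsZero (K.X i)) :
    ∀ (d : ℕ) (i : ℤ), i < N + d → i ≤ 0 → Dual' k n ω (d * (2 * e)) (kernel (K.d i (i + 1)))
  | 0, i, hi, _ => dual'_of_isZero
      (IsZero.of_mono (kernel.ι (K.d i (i + 1))) (hN i (by omega))) _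
  | d + 1, i, hi, hi0 => by
    obtain ⟨i, rfl⟩ : ∃ i', i = i' + 1 := ⟨i - 1, by ring⟩
    haveI := Curves.GlobalSections.isNoetherian_of_proper k X
    rw [show (d + 1) * (2 * e) = d * (2 * e) + 2 * e by ring]
    exact dual'_step (S := ProjKoszul.Chase.cyc K i) hd' (ProjKoszul.Chase.shortExact_cyc K hK i)
      (CohBasics.Closure.isCoh_kernel _ (hcoh i) (hcoh (i + 1)).1)
      (CohBasics.Closure.isCoh_kernel _ (hcoh (i + 1)) (hcoh (i + 1 + 1)).1)
      (dual'_cycles hd' K hK hcoh hsmall N hN d i (by omega) (by omega)) (hsmall i (by omega))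

end Groth.Agent.Lib.DualAsymp96
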