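import Groth.Agent.Lib.ProjKoszul.Iterate
import Groth.Agent.Lib.UnifReg.Hyperplane
import Groth.Agent.Lib.Modules.Local

/-!
# The Koszul complex of sections of an invertible module without common zero
-/

set_option autoImplicit false
set_option linter.style.haveILetI false
universe u v

open CategoryTheory CategoryTheory.Limits AlgebraicGeometry

noncomputable section

namespace Groth.Agent.Lib.DualAsymp96

open Groth.Agent.Lib Groth.Agent.Lib.ProjKoszul.Iterate
open Groth.Agent.Lib.TensorMod.Basic (tensorBy)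

variable {X : Scheme.{u}} {P : X.Modules} {r : ℕ} (s : Fin r → (Coh.structureModule X ⟶ P))

/-- The sections, indexed by natural numbers. -/
def kμ (t : ℕ) : 𝟭 X.Modules ⟶ tensorBy P :=
  if h : t < r then UnifReg.Hyperplane.mulS (s ⟨t, h⟩) else UnifReg.Hyperplane.mulS 0

variable [(tensorBy P).Additive]

/-- The Koszul complex. -/
def kcx (M : X.Modules) : CochainComplex X.Modules ℤ := (kos (tensorBy P) (kμ s) r).obj M

/-- It is exact if the sections have no common zero. -/
theorem exactAt_kcx (hs : ∀ x : X, ∃ t, x ∈ CohB1.genLocus P (s t)) (M : X.Modules) (i : ℤ) :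
    (kcx s M).ExactAt i := by
  choose t ht using hs
  choose U hxU hU using fun x => (Ample.GenLocus.mem_genLocus_iff (s (t x))).1 (ht x)
  refine Modules.Local.exact_of_restrict U
    (eq_top_iff.mpr fun x _ => TopologicalSpace.Opens.mem_iSup.mpr ⟨x, hxU x⟩) _ fun x => ?_
  let F := Scheme.Modules.restrictFunctor (U x).ι
  have h1 : IsIso (F.map (s (t x))) := (Ample.GenLocus.isIso_restrict_iff (s (t x)) (U x)).2 (hU x)
  have h2 : IsIso ((Scheme.Modules.pullback (U x).ι).map (s (t x))) :=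
    (NatIso.isIso_map_iff (Scheme.Modules.restrictFunctorIsoPullback (U x).ι) _).1 h1
  exact acyclic_map_kos (tensorBy P) (kμ s) F M (t x).val (fun N => by
    have ht : kμ s (t x).val = UnifReg.Hyperplane.mulS (s (t x)) := dif_pos (t x).isLt
    rw [ht]
    exact (NatIso.isIso_map_iff (Scheme.Modules.restrictFunctorIsoPullback (U x).ι) _).2
      (@UnifReg.Hyperplane.isIso_pb_mulS X P (s (t x)) _ (U x).ι h2 N)) r (t x).isLt i

theorem isZero_kcx (M : X.Modules) (i : ℤ) (h : i < -(r : ℤ) ∨ 0 < i) : IsZero ((kcx s M).X i) :=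
  isZero_X_of_not_mem (tensorBy P) (kμ s) M r i h

theorem exists_kcx_top (M : X.Modules) :
    Nonempty ((kcx s M).X 0 ≅ (pow (tensorBy P) r).obj M) := by
  obtain ⟨e⟩ := nonempty_kos_X_iso (tensorBy P) (kμ s) M r 0 r 0 (by simp)
  have : Unique (Fin (Nat.choose r r)) := by rw [Nat.choose_self]; infer_instance
  exact ⟨e ≪≫ coproductUniqueIso _ ≪≫ eqToIso (by rw [zero_add])⟩

/-- A property of modules with a size, closed under sums, passes to the terms from the layers. -/
theorem kos_induction {C : Type u} [Category.{v} C] [Abelian C] (T : C ⥤ C) [T.Additive]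
    (μ : ℕ → (𝟭 C ⟶ T)) (Q : ℕ → C → Prop) (h0 : ∀ e Y, IsZero Y → Q e Y)
    (hiso : ∀ e Y Z, (Y ≅ Z) → Q e Y → Q e Z)
    (hsum : ∀ a b Y Z, Q a Y → Q b Z → Q (a + b) (Y ⊞ Z)) (M : C) (e : ℕ) :
    ∀ (s m : ℕ) (i : ℤ),
      (-(s : ℤ) ≤ i → i ≤ 0 → ∀ l : ℕ, (l : ℤ) = m + s + i → Q e ((pow T l).obj M)) →
        Q (2 ^ s * e) ((pow T m).obj (((kos T μ s).obj M).X i))
  | 0, m, i, h => by
    rw [pow_zero, one_mul]
    by_cases hi : i = 0
    · subst hi
      exact hiso _ _ _ ((pow T m).mapIso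
        (HomologicalComplex.singleObjXSelf (ComplexShape.up ℤ) 0 M)).symm
        (h (by simp) le_rfl m (by simp))
    · exact h0 _ _ ((pow T m).map_isZero
        (HomologicalComplex.isZero_single_obj_X (ComplexShape.up ℤ) 0 M i hi))
  | s + 1, m, i, h => by
    let K := (kos T μ s).obj M
    have := preservesBinaryBiproducts_of_preservesBiproducts (pow T m)
    have e' : (pow T m).obj (((kos T μ (s + 1)).obj M).X i) ≅
        (pow T m).obj (K.X (i + 1)) ⊞ (pow T (m + 1)).obj (K.X i) :=
      (pow T m).mapIso (HomologicalComplex.homotopyCofiber.XIsoBiprod (natHom T (μ s) K) i (i + 1) rfl) ≪≫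
        (pow T m).mapBiprod _ _
    rw [show 2 ^ (s + 1) * e = 2 ^ s * e + 2 ^ s * e by ring]
    refine hiso _ _ _ e'.symm (hsum _ _ _ _ ?_ ?_)
    · exact kos_induction T μ Q h0 hiso hsum M e s m (i + 1) fun a b l hl =>
        h (by omega) (by omega) l (by push_cast at hl ⊢; omega)
    · exact kos_induction T μ Q h0 hiso hsum M e s (m + 1) i fun a b l hl =>
        h (by omega) (by omega) l (by push_cast at hl ⊢; omega)

/-- The terms below the top. -/
theorem kcx_induction (Q : ℕ → X.Modules → Prop) (h0 : ∀ e Y, IsZero Y → Q e Y)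
    (hiso : ∀ e Y Z, (Y ≅ Z) → Q e Y → Q e Z)
    (hsum : ∀ a b Y Z, Q a Y → Q b Z → Q (a + b) (Y ⊞ Z)) (M : X.Modules) (e : ℕ)
    (h : ∀ l, l < r → Q e ((pow (tensorBy P) l).obj M)) (i : ℤ) (hi : i < 0) :
    Q (2 ^ r * e) ((kcx s M).X i) :=
  kos_induction (tensorBy P) (kμ s) Q h0 hiso hsum M e r 0 i fun _ _ l hl => h l (by omega)

end Groth.Agent.Lib.DualAsymp96
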