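import Groth.Agent.Lib.DualAsymp96.NegBound
import Groth.Agent.Lib.DualAsymp96.Koszul
import Groth.Agent.Lib.DualAsymp96.Chase
import Groth.Agent.Lib.ProjDualExt.Integral
import Groth.Agent.Lib.SurfInt.AmpleVanish
import Groth.Agent.Lib.FundLocal.InvHom
import Groth.Agent.Lib.DepthTwist.Embed

/-!
# `ĥ^i(L) = ĥ^{n-i}(L^{-1})`
-/

set_option autoImplicit false
set_option linter.style.haveILetI false
set_option linter.unusedSectionVars false
universe u

open CategoryTheory CategoryTheory.Limits AlgebraicGeometry Filter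

noncomputable section

namespace Groth.Agent.Lib.DualAsymp96

open CategoryTheory.Abelian
open Groth.Agent.Lib Groth.Agent.Lib.PosLin Groth.Agent.Lib.PosLin.CohBound Groth.Agent.Lib.PosLin.Asymp
open Groth.Agent.Lib.TensorMod.Basic (comm assoc tensorIso leftUnit rightUnit tensorBy)
open Groth.Agent.Lib.TensorMod.Invertible (isInvertible_tensorPow isInvertible_tensorMod
  isInvertible_dual tensorDualIso)
open Groth.Agent.Lib.Ample.Pow (powAdd powTensor powIso powUnit powMul powCongr middleFour)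

section Small

variable {k : Type u} [Field k] {X : Scheme.{u}} [X.Over (Spec (CommRingCat.of k))]
  [IsProper (X ↘ Spec (CommRingCat.of k))] [HasExt.{u} X.Modules] {n : ℕ} {ω : X.Modules}

include k in
theorem isCoh_of_isZero {M : X.Modules} (h : IsZero M) : Coh.IsCoh M :=
  haveI := Curves.GlobalSections.isNoetherian_of_proper k X
  CohBasics.Closure.isCoh_of_iso
    (IsZero.iso (isZero_kernel_of_mono (𝟙 (Coh.structureModule X))) h)
    (CohBasics.Closure.isCoh_kernel _ (Snapper.Twist.isCoh_structureModule X)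
      (Snapper.Twist.isCoh_structureModule X).1)

/-- Isomorphic modules have isomorphic `Ext^q(-, ω)`. -/
def extIso {M N : X.Modules} (e : M ≅ N) (q : ℕ) : Ext.{u} N ω q ≃ₗ[k] Ext.{u} M ω q :=
  LinearEquiv.ofLinearMap (ProjCoh.SerreDual.pre k (Ext.mk₀ e.hom) ω (zero_add q))
    (ProjCoh.SerreDual.pre k (Ext.mk₀ e.inv) ω (zero_add q))
    (LinearMap.ext fun x => by
      change (Ext.mk₀ e.hom).comp ((Ext.mk₀ e.inv).comp x (zero_add q)) (zero_add q) = x
      rw [← Ext.comp_assoc _ _ _ (zero_add 0) (zero_add q) (by omega), Ext.mk₀_comp_mk₀, e.hom_inv_id,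
        Ext.mk₀_id_comp])
    (LinearMap.ext fun x => by
      change (Ext.mk₀ e.inv).comp ((Ext.mk₀ e.hom).comp x (zero_add q)) (zero_add q) = x
      rw [← Ext.comp_assoc _ _ _ (zero_add 0) (zero_add q) (by omega), Ext.mk₀_comp_mk₀, e.inv_hom_id,
        Ext.mk₀_id_comp])

theorem small_isZero {M : X.Modules} (h : IsZero M) (e : ℕ) : Small k n ω e M := by
  refine ⟨isCoh_of_isZero (k := k) h, fun q _ => ?_, fun q _ => ?_⟩
  · haveI := CohBound.subsingleton_HH_isZero (k := k) h q
    exact Module.finrank_zero_of_subsingleton.le.trans (Nat.zero_le _)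
  · haveI := subsingleton_ext_isZero (ω := ω) h q
    exact ⟨Module.Finite.of_finite, Module.finrank_zero_of_subsingleton.le.trans (Nat.zero_le _)⟩

theorem small_of_iso {M N : X.Modules} {e : ℕ} (i : M ≅ N) (h : Small k n ω e M) : Small k n ω e N := by
  refine ⟨CohBasics.Closure.isCoh_of_iso i h.1, fun q hq => (hd_congr i q).symm.le.trans (h.2.1 q hq),
    fun q hq => ?_⟩
  haveI := (h.2.2 q hq).1
  exact ⟨Module.Finite.equiv (extIso i q).symm, (extIso i q).finrank_eq.le.trans (h.2.2 q hq).2⟩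

theorem small_biprod {A B : X.Modules} {a b : ℕ} (hA : Small k n ω a A) (hB : Small k n ω b B) :
    Small k n ω (a + b) (A ⊞ B) := by
  haveI := Curves.GlobalSections.isNoetherian_of_proper k X
  let S : ShortComplex X.Modules := ShortComplex.mk (biprod.inl : A ⟶ A ⊞ B) biprod.snd biprod.inl_snd
  have hS : S.ShortExact := (ShortComplex.Splitting.ofHasBinaryBiproduct A B).shortExact
  have h2 := CohBasics.Closure.isCoh_biprod hA.1 hB.1
  refine ⟨h2, fun q hq => (hd_mid_le hS hA.1 h2 hB.1 q).trans (Nat.add_le_add (hA.2.1 q hq) (hB.2.1 q hq)),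
    fun q hq => ?_⟩
  haveI := (hA.2.2 q hq).1
  haveI := (hB.2.2 q hq).1
  have hex : Function.Exact (ProjCoh.SerreDual.pre k (Ext.mk₀ S.g) ω (zero_add q))
      (ProjCoh.SerreDual.pre k (Ext.mk₀ S.f) ω (zero_add q)) :=
    (ShortComplex.ab_exact_iff_function_exact _).mp (Ext.contravariant_sequence_exact₂' hS ω q)
  haveI : Module.Finite k (Ext.{u} (A ⊞ B) ω q) := finite_of_exact hex
  exact ⟨inferInstance, (CohBound.finrank_le_add _ _ hex).trans
    (le_of_le_of_eq (Nat.add_le_add (hB.2.2 q hq).2 (hA.2.2 q hq).2) (Nat.add_comm b a))⟩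

theorem dual'_of_iso {M N : X.Modules} {e : ℕ} (i : M ≅ N) (h : Dual' k n ω e M) :
    Dual' k n ω e N := fun j hj => by
  haveI := (h j hj).1
  refine ⟨Module.Finite.equiv (extIso i j).symm, ?_⟩
  rw [ed, (extIso (k := k) i j).finrank_eq, ← hd_congr i (n - j)]
  exact (h j hj).2

/-- `Ext^q(D, ω) = H^q(ω ⊗ C)` for `D` inverse to `C`. -/
theorem exists_ext_equiv {C D : X.Modules} (hD : PicF.IsInvertible D)
    (e : CohB1.tensorMod D C ≅ Coh.structureModule X) (q : ℕ) :
    Nonempty (Ext.{u} D ω q ≃ₗ[k] Coh.HH X (CohB1.tensorMod ω C) q) := by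
  haveI := FundLocal.InvHom.hasSheafHom e
  exact ⟨ExtHH.SheafHom.extLinearEquiv k
      (TensorMod.LocFree.of_rank (TensorMod.LocFree.of_isInvertible hD)) ω q ≪≫ₗ
    Curves.LES.isoK k (FundLocal.InvHom.homIso' e ω) q⟩

end Small

section Twists

variable {X : Scheme.{u}}

/-- Cancelling the twists. -/
theorem nonempty_pow_twist {P Q : X.Modules} [(tensorBy P).Additive]
    (e : CohB1.tensorMod Q P ≅ Coh.structureModule X) :
    ∀ (l j : ℕ) (Y : X.Modules), Nonempty ((ProjKoszul.Iterate.pow (tensorBy P) l).obj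
      (CohB1.tensorMod Y (CohB1.tensorPow Q (j + l))) ≅ CohB1.tensorMod Y (CohB1.tensorPow Q j))
  | 0, j, Y => ⟨Iso.refl _⟩
  | l + 1, j, Y => by
    obtain ⟨i⟩ := nonempty_pow_twist e l j Y
    exact ⟨(ProjKoszul.Iterate.pow (tensorBy P) l).mapIso
      (assoc Y (CohB1.tensorPow Q (j + (l + 1))) P ≪≫ tensorIso (Iso.refl Y)
        (assoc (CohB1.tensorPow Q (j + l)) Q P ≪≫ tensorIso (Iso.refl _) e ≪≫ rightUnit _)) ≪≫ i⟩

/-- `(M ⊗ A^j) ⊗ (L ⊗ A'^j) ≅ O`. -/
def twistInv {L M A A' : X.Modules} (e : CohB1.tensorMod M L ≅ Coh.structureModule X)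
    (eA : CohB1.tensorMod A A' ≅ Coh.structureModule X) (j : ℕ) :
    CohB1.tensorMod (CohB1.tensorMod M (CohB1.tensorPow A j))
      (CohB1.tensorMod L (CohB1.tensorPow A' j)) ≅ Coh.structureModule X :=
  middleFour M (CohB1.tensorPow A j) L (CohB1.tensorPow A' j) ≪≫
    tensorIso e ((powTensor A A' j).symm ≪≫ powIso eA j ≪≫ powUnit X j) ≪≫ leftUnit _

end Twists

section Main

variable {k : Type u} [Field k] {X : Scheme.{u}} [X.Over (Spec (CommRingCat.of k))]
  [IsProper (X ↘ Spec (CommRingCat.of k))]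

include k in
/-- A power of an ample module with finitely many sections without common zero, absorbing `M`. -/
theorem exists_gen {A₀ M : X.Modules} (hA : CohB1.IsAmple A₀) (hM : PicF.IsInvertible M) :
    ∃ (A : X.Modules) (r : ℕ) (s : Fin r → (Coh.structureModule X ⟶ A)), PicF.IsInvertible A ∧
      (∀ x, ∃ t, x ∈ CohB1.genLocus A (s t)) ∧
      ∀ j : ℕ, CohB1.IsAmple (CohB1.tensorMod M (CohB1.tensorPow A (j + 1))) := by
  haveI := Curves.GlobalSections.isNoetherian_of_proper k X
  obtain ⟨a, -, ha⟩ := Ample.GG.exists_isAmple_isGloballyGenerated hA hM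
  obtain ⟨b, hb⟩ := Ample.GG.eventually_genAt_twist hA (Coh.structureModule X)
    (Snapper.Twist.isCoh_structureModule X)
  let A := CohB1.tensorPow A₀ (a + b)
  have hAi : PicF.IsInvertible A := isInvertible_tensorPow hA.1 _
  have hsec : ∀ x, ∃ s : Coh.structureModule X ⟶ A, x ∈ CohB1.genLocus A s := fun x =>
    Ample.GG.exists_genLocus_of_genAt hAi ((hb (a + b) (by omega) x).of_iso (leftUnit _))
  choose σ hσ using hsec
  obtain ⟨T, hT⟩ := isCompact_univ.elim_finite_subcover
    (fun x => (CohB1.genLocus A (σ x) : Set X)) (fun x => (CohB1.genLocus A (σ x)).isOpen)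
    fun x _ => Set.mem_iUnion.2 ⟨x, hσ x⟩
  refine ⟨A, T.card, fun t => σ (T.equivFin.symm t), hAi, fun x => ?_, fun j => ?_⟩
  · obtain ⟨z, hz, hxz⟩ := Set.mem_iUnion₂.1 (hT (Set.mem_univ x))
    exact ⟨T.equivFin ⟨z, hz⟩, by simp only [Equiv.symm_apply_apply]; exact hxz⟩
  · induction j with
    | zero =>
      exact Ample.Pow.isAmple_of_iso (comm _ _ ≪≫ tensorIso (Iso.refl M) (Ample.Pow.powOne A).symm)
        (ha (a + b) (by omega)).1
    | succ j ih =>
      exact Ample.Pow.isAmple_of_iso (assoc _ _ _)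
        (Ample.Basis.isAmple_tensor ih hAi fun x => ⟨1, one_pos, σ x ≫ (Ample.Pow.powOne A).symm.hom,
          by rw [Ample.GenLocus.genLocus_comp_iso]; exact hσ x⟩)

variable [IsIntegral X] {n : ℕ}

set_option maxHeartbeats 1600000 in
/-- **Asymptotic Serre duality.** -/
theorem hhat_eq_hhat_sub (hn : topologicalKrullDim X = n) {A₀ L M : X.Modules}
    (hA : CohB1.IsAmple A₀) (hL : PicF.IsInvertible L)
    (eLM : CohB1.tensorMod L M ≅ Coh.structureModule X) {i : ℕ} (hi : i ≤ n) :
    W4c5asymptcohfn.hhat k X n i L = W4c5asymptcohfn.hhat k X n (n - i) M := by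
  haveI := Curves.GlobalSections.isNoetherian_of_proper k X
  haveI : HasExt.{u} X.Modules := hasExt_of_enoughInjectives _
  have hM : PicF.IsInvertible M := TensorMod.TensorInv.isInvertible_of_tensor_iso (comm M L ≪≫ eLM)
  obtain ⟨N₀, r₀, ι, hN₀, hcl, hιk, hpb⟩ := DepthTwist.Embed.exists_embedding (k := k) hA
  haveI := hcl
  obtain ⟨ω, t, hω, hdual, -, hrk⟩ := ProjDualExt.Integral.exists_model ι hιk hn
  obtain ⟨A, r, s, hAi, hs, hamp⟩ := exists_gen (k := k) hA hM
  have hA'i : PicF.IsInvertible (TensorMod.Dual.dual A) := isInvertible_dual hAi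
  set A' := TensorMod.Dual.dual A
  let eA : CohB1.tensorMod A A' ≅ Coh.structureModule X := tensorDualIso hAi
  let C : ℕ → X.Modules := fun j => CohB1.tensorMod M (CohB1.tensorPow A (j + 1))
  let D : ℕ → X.Modules := fun j => CohB1.tensorMod L (CohB1.tensorPow A' (j + 1))
  have hDi : ∀ j, PicF.IsInvertible (D j) := fun j =>
    isInvertible_tensorMod hL (isInvertible_tensorPow hA'i _)
  let eCD : ∀ j, CohB1.tensorMod (C j) (D j) ≅ Coh.structureModule X := fun j =>
    twistInv (comm M L ≪≫ eLM) eA (j + 1)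
  choose Kf hKf using fun (j q : ℕ) => exists_bound_neg (k := k) (hamp j) (hDi j) (eCD j) q
    (Coh.structureModule X) (Snapper.Twist.isCoh_structureModule X)
  choose Nf hNf using fun j : ℕ => SurfInt.AmpleVanish.exists_subsingleton k (hamp j) hω
  let K := ∑ j ∈ Finset.range r, ∑ q ∈ Finset.range n, Kf j q
  let K' := (r + 1) * (2 * (2 ^ r * K))
  have hlayer : ∀ m, (Finset.range r).sup Nf + 1 ≤ m → ∀ j, j < r →
      Small k n ω (K * (m + 1) ^ (n - 1)) (CohB1.tensorPow (D j) m) := by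
    intro m hm j hj
    have hinv := isInvertible_tensorPow (hDi j) m
    refine ⟨Ample.GG.isCoh_of_isInvertible hinv, fun q hq => ?_, fun q hq => ?_⟩
    · refine (hd_congr (k := k) (leftUnit _).symm q).le.trans ((hKf j q m).trans ?_)
      refine Nat.mul_le_mul ?_ (Nat.pow_le_pow_right m.succ_pos (by omega))
      exact (Finset.single_le_sum (fun q _ => Nat.zero_le (Kf j q)) (Finset.mem_range.2 hq)).trans
        (Finset.single_le_sum (fun j _ => Nat.zero_le (∑ q ∈ Finset.range n, Kf j q))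
          (Finset.mem_range.2 hj))
    · obtain ⟨E⟩ := exists_ext_equiv (k := k) (ω := ω) hinv
        ((powTensor (D j) (C j) m).symm ≪≫ powIso (comm _ _ ≪≫ eCD j) m ≪≫ powUnit X m) q
      obtain ⟨q, rfl⟩ := Nat.exists_eq_succ_of_ne_zero hq
      haveI := hNf j m ((Finset.le_sup (Finset.mem_range.2 hj)).trans (by omega)) q
      haveI := E.injective.subsingleton
      exact ⟨Module.Finite.of_finite, Module.finrank_zero_of_subsingleton.le.trans (Nat.zero_le _)⟩
  have hmain : ∀ m, (Finset.range r).sup Nf + 1 ≤ m →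
      hd k X (CohB1.tensorPow L m) i ≤ hseq k X ω M (n - i) m + K' * (m + 1) ^ (n - 1) ∧
      hseq k X ω M (n - i) m ≤ hd k X (CohB1.tensorPow L m) i + K' * (m + 1) ^ (n - 1) := by
    intro m hm
    let P := CohB1.tensorPow A m
    let Q := CohB1.tensorPow A' m
    let eQP : CohB1.tensorMod Q P ≅ Coh.structureModule X :=
      (powTensor A' A m).symm ≪≫ powIso (comm _ _ ≪≫ eA) m ≪≫ powUnit X m
    haveI : (tensorBy P).IsEquivalence := (CategoryTheory.Equivalence.mk (tensorBy P) (tensorBy Q)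
      (ProjCoh.Coherent.cancelNat (comm P Q ≪≫ eQP)).symm
      (ProjCoh.Coherent.cancelNat eQP)).isEquivalence_functor
    haveI : (tensorBy P).Additive := Functor.additive_of_preserves_binary_products _
    let s' : Fin r → (Coh.structureModule X ⟶ P) := fun t => SecTwist.powHom (s t) m
    let M0 := CohB1.tensorMod (CohB1.tensorPow L m) (CohB1.tensorPow Q r)
    let Kx := kcx s' M0
    have hm0 : 0 < m := by omega
    have hs' : ∀ x : X, ∃ t, x ∈ CohB1.genLocus P (s' t) := fun x => by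
      obtain ⟨t, ht⟩ := hs x
      exact ⟨t, by rw [Ample.GenLocus.genLocus_powHom hAi (s t) m hm0]; exact ht⟩
    set e := K * (m + 1) ^ (n - 1) with he
    obtain ⟨etop⟩ := exists_kcx_top s' M0
    obtain ⟨etw⟩ := nonempty_pow_twist eQP r 0 (CohB1.tensorPow L m)
    let e0 : Kx.X 0 ≅ CohB1.tensorPow L m :=
      etop ≪≫ (ProjKoszul.Iterate.pow (tensorBy P) r).mapIso
        (tensorIso (Iso.refl _) (powCongr Q (zero_add r).symm)) ≪≫ etw ≪≫ rightUnit _
    have hneg : ∀ l : ℤ, l < 0 → Small k n ω (2 ^ r * e) (Kx.X l) := by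
      refine kcx_induction s' (fun e Y => Small k n ω e Y) (fun e Y h => small_isZero h e)
        (fun e Y Z i h => small_of_iso i h) (fun a b Y Z h h' => small_biprod h h') M0 e fun l hl => ?_
      obtain ⟨j, hj⟩ : ∃ j, r = j + 1 + l := ⟨r - l - 1, by omega⟩
      obtain ⟨i'⟩ := nonempty_pow_twist eQP l (j + 1) (CohB1.tensorPow L m)
      refine small_of_iso ?_ (hlayer m hm j (by omega))
      exact powTensor L _ m ≪≫ tensorIso (Iso.refl _) (powMul A' (j + 1) m ≪≫
          powCongr A' (Nat.mul_comm _ _) ≪≫ (powMul A' m (j + 1)).symm) ≪≫ i'.symm ≪≫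
        (ProjKoszul.Iterate.pow (tensorBy P) l).mapIso (tensorIso (Iso.refl _) (powCongr Q hj.symm))
    have hLm := isInvertible_tensorPow hL m
    have hpos : ∀ l : ℤ, 0 < l → IsZero (Kx.X l) := fun l hl => isZero_kcx s' M0 l (Or.inr hl)
    have hcoh : ∀ l, Coh.IsCoh (Kx.X l) := fun l => by
      rcases lt_trichotomy l 0 with hl | rfl | hl
      · exact (hneg l hl).1
      · exact CohBasics.Closure.isCoh_of_iso e0.symm (Ample.GG.isCoh_of_isInvertible hLm)
      · exact isCoh_of_isZero (k := k) (hpos l hl)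
    have hD0 := dual'_cycles hdual Kx (exactAt_kcx s' hs' M0) hcoh hneg (-(r : ℤ))
      (fun l hl => isZero_kcx s' M0 l (Or.inl hl)) (r + 1) 0 (by push_cast; omega) le_rfl
    haveI := ProjKoszul.Chase.isIso_kernel_ι_zero Kx (hpos _ (by norm_num))
    obtain ⟨-, h1, h2⟩ := dual'_of_iso (asIso (kernel.ι (Kx.d 0 (0 + 1))) ≪≫ e0) hD0 (n - i) (by omega)
    obtain ⟨E⟩ := exists_ext_equiv (k := k) (ω := ω) hLm
      ((powTensor L M m).symm ≪≫ powIso eLM m ≪≫ powUnit X m) (n - i)
    rw [ed, E.finrank_eq, show n - (n - i) = i by omega] at h1 h2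
    have hK : (r + 1) * (2 * (2 ^ r * e)) = K' * (m + 1) ^ (n - 1) := by
      simp only [K', he]; ring
    rw [hK] at h1 h2
    exact ⟨h2, h1⟩
  obtain ⟨B, hB⟩ := exists_bound_dim (k := k) hn hA hL (Snapper.Twist.isCoh_structureModule X) i
  obtain ⟨B', hB'⟩ := exists_bound_dim (k := k) hn hA hM hω (n - i)
  rw [← one_mul (W4c5asymptcohfn.hhat k X n (n - i) M), ← Nat.cast_one (R := ℝ),
    ← AsympRank.hhatF_eq_rank_mul (k := k) hn hA hM hω hrk (n - i), hhatF_eq, hhat_eq]
  refine limsup_eq_of_le (K := K') (fun h => ?_)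
    (fun m => (hd_congr (k := k) (leftUnit _).symm i).le.trans (hB m)) hB'
    (eventually_atTop.2 ⟨_, fun m hm => (hmain m hm).1⟩)
    (eventually_atTop.2 ⟨_, fun m hm => (hmain m hm).2⟩)
  subst h
  simp [K', K]

end Main

end Groth.Agent.Lib.DualAsymp96
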