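import Groth.Agent.Lib.PosLin.AsympRank

/-!
# Negative twists: `h^q(G ⊗ C^{-m}) = O(m^q)`
-/

set_option autoImplicit false
set_option linter.style.haveILetI false
set_option linter.unusedSectionVars false
universe u

open CategoryTheory CategoryTheory.Limits AlgebraicGeometry

namespace Groth.Agent.Lib.DualAsymp96

open Groth.Agent.Lib Groth.Agent.Lib.Snapper Groth.Agent.Lib.PosLin.CohBound
open Groth.Agent.Lib.PosLin.SectionBound (isCoh_twist_right)
open Groth.Agent.Lib.TensorMod.Basic (comm assoc tensorIso leftUnit rightUnit)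
open Groth.Agent.Lib.TensorMod.Invertible (isInvertible_tensorPow isInvertible_tensorMod)

variable {k : Type u} [Field k] {X : Scheme.{u}} [X.Over (Spec (CommRingCat.of k))]
  [IsProper (X ↘ Spec (CommRingCat.of k))]

/-- `dim H^q(G ⊗ D^m) = O(m^q)` for `D` inverse to an ample module. -/
theorem exists_bound_neg {C D : X.Modules} (hC : CohB1.IsAmple C) (hD : PicF.IsInvertible D)
    (e : CohB1.tensorMod C D ≅ Coh.structureModule X) :
    ∀ (q : ℕ) (G : X.Modules), Coh.IsCoh G → ∃ K : ℕ, ∀ m : ℕ,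
      hd k X (CohB1.tensorMod G (CohB1.tensorPow D m)) q ≤ K * (m + 1) ^ q := by
  haveI := Curves.GlobalSections.isNoetherian_of_proper k X
  intro q G hG
  induction q generalizing G with
  | zero =>
    obtain ⟨a, ha, u, hu, -, -⟩ := Ample.Basis.exists_locus_of_finite hC _
      (UnifReg.Hyperplane.finite_assPoints hG) ⊤ (fun _ _ => trivial)
    obtain ⟨Q, φ, π, w, hS, hQ, -⟩ := exists_mulSeq hG (isInvertible_tensorPow hC.1 a) u
      (fun x hx => hu hx)
    let P : ℕ → ℕ := fun m => hd k X (CohB1.tensorMod G (CohB1.tensorPow D m)) 0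
    have hstep : ∀ m, P (m + a) ≤ P m + 0 * (m + a + 1) ^ 0 := fun m => by
      have hM := isInvertible_tensorPow hD (m + a)
      let em : CohB1.tensorMod (CohB1.tensorPow D (m + a)) (CohB1.tensorMod G (CohB1.tensorPow C a)) ≅
          CohB1.tensorMod G (CohB1.tensorPow D m) :=
        tensorIso (Ample.Pow.powAdd D m a) (comm _ _) ≪≫ assoc _ _ _ ≪≫
          tensorIso (Iso.refl _) ((assoc _ _ _).symm ≪≫ tensorIso ((Ample.Pow.powTensor D C a).symm ≪≫
            Ample.Pow.powIso (comm _ _ ≪≫ e) a ≪≫ Ample.Pow.powUnit X a) (Iso.refl _) ≪≫ leftUnit _) ≪≫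
          comm _ _
      haveI := (Twist.twistSeq_shortExact hM hS).mono_f
      haveI : Module.Finite k (Coh.HH X (Twist.twistSeq (CohB1.tensorPow D (m + a))
          (ShortComplex.mk φ π w)).X₂ 0) := Snapper.Finite.cohFinite k X _ (Twist.isCoh_twist hM
        (isCoh_twist_right hG (isInvertible_tensorPow hC.1 a))) 0
      have h := LinearMap.finrank_le_finrank_of_injective
        (Curves.LES.mapK_injective_of_mono k (X := X) (Twist.twistSeq (CohB1.tensorPow D (m + a))
          (ShortComplex.mk φ π w)).f)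
      rw [Nat.zero_mul, Nat.add_zero]
      exact ((hd_congr (k := k) (comm _ _) 0).le.trans h).trans (hd_congr (k := k) em 0).le
    exact ⟨∑ j ∈ Finset.range a, P j, fun m => (rec_bound ha hstep m).trans (by simp)⟩
  | succ q ih =>
    obtain ⟨a, ha, u, hu, -, -⟩ := Ample.Basis.exists_locus_of_finite hC _
      (UnifReg.Hyperplane.finite_assPoints hG) ⊤ (fun _ _ => trivial)
    obtain ⟨Q, φ, π, w, hS, hQ, -⟩ := exists_mulSeq hG (isInvertible_tensorPow hC.1 a) u
      (fun x hx => hu hx)
    obtain ⟨K, hK⟩ := ih Q hQ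
    let P : ℕ → ℕ := fun m => hd k X (CohB1.tensorMod G (CohB1.tensorPow D m)) (q + 1)
    have hstep : ∀ m, P (m + a) ≤ P m + K * (m + a + 1) ^ q := fun m => by
      have hM := isInvertible_tensorPow hD (m + a)
      let em : CohB1.tensorMod (CohB1.tensorPow D (m + a)) (CohB1.tensorMod G (CohB1.tensorPow C a)) ≅
          CohB1.tensorMod G (CohB1.tensorPow D m) :=
        tensorIso (Ample.Pow.powAdd D m a) (comm _ _) ≪≫ assoc _ _ _ ≪≫
          tensorIso (Iso.refl _) ((assoc _ _ _).symm ≪≫ tensorIso ((Ample.Pow.powTensor D C a).symm ≪≫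
            Ample.Pow.powIso (comm _ _ ≪≫ e) a ≪≫ Ample.Pow.powUnit X a) (Iso.refl _) ≪≫ leftUnit _) ≪≫
          comm _ _
      have h := hd_left_le (k := k) (Twist.twistSeq_shortExact hM hS) (Twist.isCoh_twist hM hG)
        (Twist.isCoh_twist hM (isCoh_twist_right hG (isInvertible_tensorPow hC.1 a)))
        (Twist.isCoh_twist hM hQ) (q + 1)
      exact ((hd_congr (k := k) (comm _ _) _).le.trans h).trans
        (Nat.add_le_add (hd_congr (k := k) em _).le ((hd_congr (k := k) (comm _ _) _).le.trans (hK (m + a))))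
    refine ⟨(∑ j ∈ Finset.range a, P j) + K, fun m => (rec_bound ha hstep m).trans ?_⟩
    rw [add_mul, pow_succ, mul_comm ((m + 1) ^ q), ← mul_assoc K]
    refine add_le_add (Nat.le_mul_of_pos_right _ (by positivity)) ?_
    exact Nat.mul_le_mul_right _ (Nat.mul_le_mul_left _ (Nat.le_succ m))

end Groth.Agent.Lib.DualAsymp96
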