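import Groth.Agent.Lib.DualAsymp96.NegBound
import Groth.Agent.Lib.Nakai.UnifAbs

/-!
# Bounds uniform in numerically trivial twists
-/

set_option autoImplicit false
set_option linter.style.haveILetI false
set_option linter.unusedSectionVars false
universe u

open CategoryTheory CategoryTheory.Limits AlgebraicGeometry

namespace Groth.Agent.Lib.DualAsymp96

open Groth.Agent.Lib Groth.Agent.Lib.Snapper Groth.Agent.Lib.PosLin.CohBound
open Groth.Agent.Lib.PosLin.SectionBound (isCoh_twist_right)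
open Groth.Agent.Lib.TensorMod.Basic (comm assoc tensorIso leftUnit rightUnit)
open Groth.Agent.Lib.TensorMod.Invertible (isInvertible_tensorPow isInvertible_tensorMod)
open Groth.Agent.Lib.Nakai.UnifAbs (NTA)

variable {k : Type u} [Field k] {X : Scheme.{u}} [X.Over (Spec (CommRingCat.of k))]
  [IsProper (X ↘ Spec (CommRingCat.of k))]

/-- `dim H^q(L' ⊗ G)` is bounded for numerically trivial `L'`. -/
theorem exists_bound_nta {C : X.Modules} (hC : CohB1.IsAmple C) :
    ∀ (q : ℕ) (G : X.Modules), Coh.IsCoh G → ∃ U : ℕ, ∀ L' : X.Modules, NTA k L' →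
      hd k X (CohB1.tensorMod L' G) q ≤ U := by
  haveI := Curves.GlobalSections.isNoetherian_of_proper k X
  intro q
  induction q with
  | zero =>
    intro G hG
    obtain ⟨d, hd'⟩ := Nakai.UnifAbs.exists_dim_bound k hC
    obtain ⟨K, hK⟩ := Nakai.NTBound.exists_bound (k := k) hd' hC hG
    exact ⟨K, fun L' hL => hK L' (hL.2 d hd')⟩
  | succ q ih =>
    intro G hG
    obtain ⟨m₀, hm₀⟩ := Nakai.UnifAbs.exists_vanishing k hC hG
    obtain ⟨a, ha, u, hu, -, -⟩ := Ample.Basis.exists_locus_of_finite hC _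
      (UnifReg.Hyperplane.finite_assPoints hG) ⊤ (fun _ _ => trivial)
    obtain ⟨Q, φ, π, w, hS, hQ, -⟩ := exists_mulSeq hG (isInvertible_tensorPow hC.1 (a * (m₀ + 1)))
      (SecTwist.powHom u (m₀ + 1) ≫ (Ample.Pow.powMul C a (m₀ + 1)).hom)
      (fun x hx => by
        rw [Ample.GenLocus.genLocus_comp_iso,
          Ample.GenLocus.genLocus_powHom (isInvertible_tensorPow hC.1 a) u _ m₀.succ_pos]
        exact hu hx)
    obtain ⟨K, hK⟩ := ih Q hQ
    refine ⟨K, fun L' hL => ?_⟩
    have hGC := isCoh_twist_right hG (isInvertible_tensorPow hC.1 (a * (m₀ + 1)))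
    have h := hd_left_le (k := k) (Twist.twistSeq_shortExact hL.1 hS) (Twist.isCoh_twist hL.1 hG)
      (Twist.isCoh_twist hL.1 hGC) (Twist.isCoh_twist hL.1 hQ) (q + 1)
    haveI := (hm₀ L' hL).1 (a * (m₀ + 1))
      ((Nat.le_succ m₀).trans (Nat.le_mul_of_pos_left _ ha)) (q + 1) (by omega)
    have h0 : hd k X (CohB1.tensorMod L' (CohB1.tensorMod (CohB1.tensorPow C (a * (m₀ + 1))) G)) (q + 1) = 0 :=
      Module.finrank_zero_of_subsingleton
    refine h.trans ((Nat.add_le_add
      ((hd_congr (k := k) (tensorIso (Iso.refl L') (comm _ _)) _).trans h0).le (hK L' hL)).trans ?_)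
    rw [Nat.zero_add]

/-- `dim H^q(L' ⊗ G ⊗ D^m) = O(m^q)` uniformly in numerically trivial `L'`, for `D` inverse to an ample
module. -/
theorem exists_bound_neg_nta {C D : X.Modules} (hC : CohB1.IsAmple C) (hD : PicF.IsInvertible D)
    (e : CohB1.tensorMod C D ≅ Coh.structureModule X) :
    ∀ (q : ℕ) (G : X.Modules), Coh.IsCoh G → ∃ K : ℕ, ∀ (L' : X.Modules), NTA k L' → ∀ m : ℕ,
      hd k X (CohB1.tensorMod (CohB1.tensorMod L' G) (CohB1.tensorPow D m)) q ≤ K * (m + 1) ^ q := by
  haveI := Curves.GlobalSections.isNoetherian_of_proper k X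
  intro q G hG
  induction q generalizing G with
  | zero =>
    obtain ⟨a, ha, u, hu, -, -⟩ := Ample.Basis.exists_locus_of_finite hC _
      (UnifReg.Hyperplane.finite_assPoints hG) ⊤ (fun _ _ => trivial)
    obtain ⟨Q, φ, π, w, hS, hQ, -⟩ := exists_mulSeq hG (isInvertible_tensorPow hC.1 a) u
      (fun x hx => hu hx)
    choose U hU using fun j : ℕ => exists_bound_nta (k := k) hC 0
      (CohB1.tensorMod G (CohB1.tensorPow D j)) (isCoh_twist_right hG (isInvertible_tensorPow hD j))
    refine ⟨∑ j ∈ Finset.range a, U j, fun L' hL => ?_⟩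
    let P : ℕ → ℕ := fun m => hd k X (CohB1.tensorMod (CohB1.tensorMod L' G) (CohB1.tensorPow D m)) 0
    have hstep : ∀ m, P (m + a) ≤ P m + 0 * (m + a + 1) ^ 0 := fun m => by
      have hM := isInvertible_tensorMod hL.1 (isInvertible_tensorPow hD (m + a))
      let e0 : CohB1.tensorMod (CohB1.tensorMod L' G) (CohB1.tensorPow D (m + a)) ≅
          CohB1.tensorMod (CohB1.tensorMod L' (CohB1.tensorPow D (m + a))) G :=
        assoc _ _ _ ≪≫ tensorIso (Iso.refl _) (comm _ _) ≪≫ (assoc _ _ _).symm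
      let em : CohB1.tensorMod (CohB1.tensorMod L' (CohB1.tensorPow D (m + a)))
          (CohB1.tensorMod G (CohB1.tensorPow C a)) ≅
          CohB1.tensorMod (CohB1.tensorMod L' G) (CohB1.tensorPow D m) :=
        assoc _ _ _ ≪≫ tensorIso (Iso.refl _)
          (tensorIso (Ample.Pow.powAdd D m a) (comm _ _) ≪≫ assoc _ _ _ ≪≫
            tensorIso (Iso.refl _) ((assoc _ _ _).symm ≪≫ tensorIso ((Ample.Pow.powTensor D C a).symm ≪≫
              Ample.Pow.powIso (comm _ _ ≪≫ e) a ≪≫ Ample.Pow.powUnit X a) (Iso.refl _) ≪≫ leftUnit _) ≪≫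
            comm _ _) ≪≫ (assoc _ _ _).symm
      haveI := (Twist.twistSeq_shortExact hM hS).mono_f
      haveI : Module.Finite k (Coh.HH X (Twist.twistSeq (CohB1.tensorMod L' (CohB1.tensorPow D (m + a)))
          (ShortComplex.mk φ π w)).X₂ 0) := Snapper.Finite.cohFinite k X _ (Twist.isCoh_twist hM
        (isCoh_twist_right hG (isInvertible_tensorPow hC.1 a))) 0
      have h := LinearMap.finrank_le_finrank_of_injective
        (Curves.LES.mapK_injective_of_mono k (X := X)
          (Twist.twistSeq (CohB1.tensorMod L' (CohB1.tensorPow D (m + a))) (ShortComplex.mk φ π w)).f)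
      rw [Nat.zero_mul, Nat.add_zero]
      exact ((hd_congr (k := k) e0 0).le.trans h).trans (hd_congr (k := k) em 0).le
    intro m
    refine (rec_bound ha hstep m).trans ?_
    simp only [Nat.zero_mul, Nat.add_zero, pow_zero, Nat.mul_one]
    exact Finset.sum_le_sum fun j _ =>
      (hd_congr (k := k) (assoc _ _ _) 0).le.trans (hU j L' hL)
  | succ q ih =>
    obtain ⟨a, ha, u, hu, -, -⟩ := Ample.Basis.exists_locus_of_finite hC _
      (UnifReg.Hyperplane.finite_assPoints hG) ⊤ (fun _ _ => trivial)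
    obtain ⟨Q, φ, π, w, hS, hQ, -⟩ := exists_mulSeq hG (isInvertible_tensorPow hC.1 a) u
      (fun x hx => hu hx)
    obtain ⟨K, hK⟩ := ih Q hQ
    choose U hU using fun j : ℕ => exists_bound_nta (k := k) hC (q + 1)
      (CohB1.tensorMod G (CohB1.tensorPow D j)) (isCoh_twist_right hG (isInvertible_tensorPow hD j))
    refine ⟨(∑ j ∈ Finset.range a, U j) + K, fun L' hL => ?_⟩
    let P : ℕ → ℕ := fun m =>
      hd k X (CohB1.tensorMod (CohB1.tensorMod L' G) (CohB1.tensorPow D m)) (q + 1)
    have hstep : ∀ m, P (m + a) ≤ P m + K * (m + a + 1) ^ q := fun m => by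
      have hM := isInvertible_tensorMod hL.1 (isInvertible_tensorPow hD (m + a))
      let e0 : ∀ G' : X.Modules, CohB1.tensorMod (CohB1.tensorMod L' G') (CohB1.tensorPow D (m + a)) ≅
          CohB1.tensorMod (CohB1.tensorMod L' (CohB1.tensorPow D (m + a))) G' := fun G' =>
        assoc _ _ _ ≪≫ tensorIso (Iso.refl _) (comm _ _) ≪≫ (assoc _ _ _).symm
      let em : CohB1.tensorMod (CohB1.tensorMod L' (CohB1.tensorPow D (m + a)))
          (CohB1.tensorMod G (CohB1.tensorPow C a)) ≅
          CohB1.tensorMod (CohB1.tensorMod L' G) (CohB1.tensorPow D m) :=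
        assoc _ _ _ ≪≫ tensorIso (Iso.refl _)
          (tensorIso (Ample.Pow.powAdd D m a) (comm _ _) ≪≫ assoc _ _ _ ≪≫
            tensorIso (Iso.refl _) ((assoc _ _ _).symm ≪≫ tensorIso ((Ample.Pow.powTensor D C a).symm ≪≫
              Ample.Pow.powIso (comm _ _ ≪≫ e) a ≪≫ Ample.Pow.powUnit X a) (Iso.refl _) ≪≫ leftUnit _) ≪≫
            comm _ _) ≪≫ (assoc _ _ _).symm
      have h := hd_left_le (k := k) (Twist.twistSeq_shortExact hM hS) (Twist.isCoh_twist hM hG)
        (Twist.isCoh_twist hM (isCoh_twist_right hG (isInvertible_tensorPow hC.1 a)))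
        (Twist.isCoh_twist hM hQ) (q + 1)
      exact ((hd_congr (k := k) (e0 G) _).le.trans h).trans
        (Nat.add_le_add (hd_congr (k := k) em _).le
          ((hd_congr (k := k) (e0 Q).symm _).le.trans (hK L' hL (m + a))))
    intro m
    refine (rec_bound ha hstep m).trans ?_
    rw [add_mul, pow_succ, mul_comm ((m + 1) ^ q), ← mul_assoc K]
    refine add_le_add ((Finset.sum_le_sum fun j _ =>
      (hd_congr (k := k) (assoc _ _ _) (q + 1)).le.trans (hU j L' hL)).trans
        (Nat.le_mul_of_pos_right _ (by positivity))) ?_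
    exact Nat.mul_le_mul_right _ (Nat.mul_le_mul_left _ (Nat.le_succ m))

end Groth.Agent.Lib.DualAsymp96
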