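import Groth.Agent.Lib.DualAsymp96.Main
import Groth.Agent.Lib.DualAsymp96.Uniform
import Groth.Agent.Lib.PosLin.TopVanish
import Groth.Agent.Lib.Nakai.HomBound

/-!
# `ĥ^i` only depends on the numerical class
-/

set_option autoImplicit false
set_option linter.style.haveILetI false
set_option linter.unusedSectionVars false
universe u

open CategoryTheory CategoryTheory.Limits AlgebraicGeometry Filter

noncomputable section

namespace Groth.Agent.Lib.DualAsymp96

open CategoryTheory.Abelian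
open Groth.Agent.Lib Groth.Agent.Lib.PosLin Groth.Agent.Lib.PosLin.CohBound Groth.Agent.Lib.PosLin.Asymp
open Groth.Agent.Lib.PosLin.SectionBound (isCoh_twist_right)
open Groth.Agent.Lib.TensorMod.Basic (comm assoc tensorIso leftUnit rightUnit tensorBy)
open Groth.Agent.Lib.TensorMod.Invertible (isInvertible_tensorPow isInvertible_tensorMod
  isInvertible_dual tensorDualIso)
open Groth.Agent.Lib.Ample.Pow (powAdd powTensor powIso powUnit powMul powCongr middleFour)
open Groth.Agent.Lib.Curves.LES (mapK δK exactK₁ exactK₂ exactK₃)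
open Groth.Agent.Lib.Nakai.UnifAbs (NTA)

variable {k : Type u} [Field k] {X : Scheme.{u}} [X.Over (Spec (CommRingCat.of k))]
  [IsProper (X ↘ Spec (CommRingCat.of k))]

/-- The cohomology of the cycles of an exact complex, from that of the terms. -/
theorem hd_cycles_le (K : CochainComplex X.Modules ℤ) (hK : ∀ i, K.ExactAt i)
    (hcoh : ∀ i, Coh.IsCoh (K.X i)) {e : ℕ} (hsmall : ∀ i, i < 0 → ∀ q, hd k X (K.X i) q ≤ e) (N : ℤ)
    (hN : ∀ i, i < N → IsZero (K.X i)) :
    ∀ (d : ℕ) (i : ℤ), i < N + d → i ≤ 0 → ∀ q, hd k X (kernel (K.d i (i + 1))) q ≤ d * e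
  | 0, i, hi, _, q => by
    haveI := CohBound.subsingleton_HH_isZero (k := k)
      (IsZero.of_mono (kernel.ι (K.d i (i + 1))) (hN i (by omega))) q
    exact Module.finrank_zero_of_subsingleton.le.trans (Nat.zero_le _)
  | d + 1, i, hi, hi0, q => by
    obtain ⟨i, rfl⟩ : ∃ i', i = i' + 1 := ⟨i - 1, by ring⟩
    haveI := Curves.GlobalSections.isNoetherian_of_proper k X
    have h := hd_right_le (k := k) (S := ProjKoszul.Chase.cyc K i) (ProjKoszul.Chase.shortExact_cyc K hK i)
      (CohBasics.Closure.isCoh_kernel _ (hcoh i) (hcoh (i + 1)).1) (hcoh i)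
      (CohBasics.Closure.isCoh_kernel _ (hcoh (i + 1)) (hcoh (i + 1 + 1)).1) q
    have h1 := hd_cycles_le K hK hcoh hsmall N hN d i (by omega) (by omega) (q + 1)
    have h2 := hsmall i (by omega) q
    rw [Nat.succ_mul, Nat.add_comm]
    exact h.trans (Nat.add_le_add h2 h1)

theorem eulerCharLE_eq_hd_zero {F : X.Modules} (h : ∀ q, 1 ≤ q → Subsingleton (Coh.HH X F q)) (d : ℕ) :
    FGA.eulerCharLE k X F d = (hd k X F 0 : ℤ) := by
  unfold FGA.eulerCharLE
  rw [Finset.sum_eq_single 0]
  · simp [hd]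
  · intro q _ hq
    haveI := h q (by omega)
    simp [Module.finrank_zero_of_subsingleton]
  · simp

theorem nta_dual {L : X.Modules} (hL : NTA k L) : NTA k (TensorMod.Dual.dual L) :=
  ⟨isInvertible_dual hL.1, fun d hd' =>
    Nakai.NTBound.nt_inv hd' (hL.2 d hd') (isInvertible_dual hL.1) (tensorDualIso hL.1)⟩

theorem nta_structure : NTA k (Coh.structureModule X) := by
  refine ⟨PicLoc.isInvertible_structureModule X, fun d hd' =>
    ⟨PicLoc.isInvertible_structureModule X, fun z hz => ?_⟩⟩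
  have hO := PicLoc.isInvertible_structureModule X
  have hsame : ∀ {A B : X.Modules}, (A ≅ B) →
      Nakai.Cut.ip k d [A] z = Nakai.Cut.ip k d [B] z := fun i => by
    simp only [Nakai.Cut.ip, List.length_singleton]
    rw [Snapper.IntNum.sym_cons_iso i]
  have h2 := Nakai.Cut.ip_tensor (k := k) hd' hO hO (l := []) (fun M hM => by simp at hM) (y := z)
    (by simp [hz])
  rw [hsame (leftUnit (Coh.structureModule X))] at h2
  omega

theorem nta_pow {L : X.Modules} (hL : NTA k L) (j : ℕ) : NTA k (CohB1.tensorPow L j) :=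
  ⟨isInvertible_tensorPow hL.1 j, fun d hd' => Nakai.NTBound.nt_pow hd' (hL.2 d hd') j⟩

/-- Sections of twists of large powers of an ample module do not see numerically trivial modules. -/
theorem exists_h0_nta {C G : X.Modules} (hC : CohB1.IsAmple C) (hG : Coh.IsCoh G) :
    ∃ m₀ : ℕ, ∀ L' : X.Modules, NTA k L' → ∀ m, m₀ ≤ m →
      hd k X (CohB1.tensorMod L' (CohB1.tensorMod (CohB1.tensorPow C m) G)) 0 =
        hd k X (CohB1.tensorMod (CohB1.tensorPow C m) G) 0 := by
  obtain ⟨d, hd'⟩ := Nakai.UnifAbs.exists_dim_bound k hC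
  obtain ⟨m₀, hm₀⟩ := Nakai.UnifAbs.exists_vanishing k hC hG
  refine ⟨m₀, fun L' hL m hm => ?_⟩
  obtain ⟨m₁, hm₁⟩ := Nakai.UnifAbs.exists_vanishing k hC
    (Snapper.Twist.isCoh_twist (isInvertible_tensorPow hC.1 m) hG)
  have h := (hm₁ L' hL).2 d hd'
  rw [eulerCharLE_eq_hd_zero ((hm₀ L' hL).1 m hm), eulerCharLE_eq_hd_zero (fun q hq => by
    haveI := (hm₀ _ nta_structure).1 m hm q hq
    exact (Curves.LES.isoK k (leftUnit (CohB1.tensorMod (CohB1.tensorPow C m) G)).symm q).injective.subsingleton)] at h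
  exact_mod_cast h

section Integral

variable [IsIntegral X] [HasExt.{u} X.Modules] {n : ℕ} {ω : X.Modules} [ω.IsQuasicoherent]
  {t : Coh.HH X ω n →ₗ[k] k}

/-- `h^n` of an invertible module. -/
theorem hd_top_eq (hd' : ProjCoh.DualityCM.IsDualizing ω t) {C D : X.Modules} (hD : PicF.IsInvertible D)
    (e : CohB1.tensorMod D C ≅ Coh.structureModule X) :
    hd k X D n = hd k X (CohB1.tensorMod ω C) 0 := by
  obtain ⟨E⟩ := exists_ext_equiv (k := k) (ω := ω) hD e 0
  rw [← ed_zero hd' D (Ample.GG.isCoh_of_isInvertible hD)]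
  exact E.finrank_eq

/-- A quotient supported away from the generic point has no top cohomology. -/
theorem hd_top_quot (hdim : topologicalKrullDim X = n) (hd' : ProjCoh.DualityCM.IsDualizing ω t)
    (htors : ∀ x : X, Submodule.torsion (X.presheaf.stalk x) (ω.presheaf.stalk x) = ⊥)
    {S : ShortComplex X.Modules} (hS : S.ShortExact) (h1 : Coh.IsCoh S.X₁) (h2 : Coh.IsCoh S.X₂)
    (h3 : Coh.IsCoh S.X₃) (hη : genericPoint X ∉ CohB1.support S.X₃) :
    hd k X S.X₃ n = 0 ∧
      ∀ q, q + 1 = n → hd k X S.X₃ q + hd k X S.X₂ n ≤ hd k X S.X₂ q + hd k X S.X₁ n := by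
  haveI := Curves.GlobalSections.isNoetherian_of_proper k X
  haveI := Snapper.Finite.cohFinite k X _ h1 n
  haveI := Snapper.Finite.cohFinite k X _ h2 n
  have hzero : ∀ ψ : S.X₃ ⟶ ω, ψ = 0 := fun ψ =>
    ProjDualExt.Integral.eq_zero_of_stalk_eq_zero ω htors ψ (LinearMap.ext fun v => by
      haveI := Modules.Support.not_mem_support_iff.1 hη
      rw [Subsingleton.elim v 0, map_zero, LinearMap.zero_apply])
  have hpre : Function.Injective (ProjCoh.SerreDual.pre k (Ext.mk₀ S.f) ω (zero_add 0)) := by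
    refine (injective_iff_map_eq_zero _).2 fun x hx => ?_
    obtain ⟨φ, rfl⟩ := (Ext.mk₀_bijective _ _).2 x
    change (Ext.mk₀ S.f).comp (Ext.mk₀ φ) (zero_add 0) = 0 at hx
    rw [Ext.mk₀_comp_mk₀] at hx
    have hf : S.f ≫ φ = 0 := (Ext.mk₀_bijective _ _).1 (by rw [hx, Ext.mk₀_zero])
    haveI := hS.epi_g
    obtain ⟨ψ, hψ⟩ := CokernelCofork.IsColimit.desc' hS.gIsCokernel φ hf
    rw [show φ = S.g ≫ ψ from hψ.symm, hzero ψ, comp_zero, Ext.mk₀_zero]
  have hdual : Function.Injective (mapK k S.f n).dualMap := fun a b hab => by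
    have h := hpre.eq_iff (a := (ProjCoh.DualityCM.θ hd' S.X₂ h2).symm a)
      (b := (ProjCoh.DualityCM.θ hd' S.X₂ h2).symm b)
    refine (ProjCoh.DualityCM.θ hd' S.X₂ h2).symm.injective (h.1 ?_)
    apply (ProjCoh.DualityCM.θ hd' S.X₁ h1).injective
    rw [ProjCoh.DualityCM.θ_natural hd' h1 h2, ProjCoh.DualityCM.θ_natural hd' h1 h2,
      LinearEquiv.apply_symm_apply, LinearEquiv.apply_symm_apply, hab]
  have hrk : Module.finrank k (LinearMap.range (mapK k S.f n)) = hd k X S.X₂ n := by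
    rw [← LinearMap.finrank_range_dualMap_eq_finrank_range, LinearMap.finrank_range_of_inj hdual]
    exact Subspace.dual_finrank_eq
  constructor
  · haveI := Snapper.Finite.cohFinite k X _ h3 n
    have hB := finrank_mid (exactK₂ k hS n)
    haveI : Subsingleton (Coh.HH X S.X₁ (n + 1)) :=
      Snapper.Chi.subsingleton_HH_of_lt hdim.le S.X₁ n.lt_succ_self
    haveI := Snapper.Finite.cohFinite k X _ h1 (n + 1)
    have hC := finrank_mid (exactK₃ k hS n (n + 1) rfl)
    have hd0 : Module.finrank k (LinearMap.range (δK k hS n (n + 1) rfl)) = 0 :=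
      Nat.le_zero.1 ((Submodule.finrank_le _).trans Module.finrank_zero_of_subsingleton.le)
    simp only [hd] at *
    omega
  · intro q hq
    subst hq
    haveI := Snapper.Finite.cohFinite k X _ h3 q
    haveI := Snapper.Finite.cohFinite k X _ h2 q
    have hC := finrank_mid (exactK₃ k hS q (q + 1) rfl)
    have hA := finrank_mid (exactK₁ k hS q (q + 1) rfl)
    have hg := LinearMap.finrank_range_le (mapK k S.g q)
    simp only [hd] at *
    omega

end Integral

section Main

variable [IsIntegral X] {n : ℕ}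

set_option maxHeartbeats 3200000 in
/-- **Numerical invariance.** -/
theorem exists_bound_numInv (hdim : topologicalKrullDim X = n) {A₀ L M : X.Modules}
    (hA : CohB1.IsAmple A₀) (hL : PicF.IsInvertible L)
    (eLM : CohB1.tensorMod L M ≅ Coh.structureModule X) :
    ∃ (B : X.Modules) (u : Coh.structureModule X ⟶ B), PicF.IsInvertible B ∧
      genericPoint X ∈ CohB1.genLocus B u ∧ ∃ K m₀ : ℕ, (n = 0 → K = 0) ∧
        ∀ L' : X.Modules, NTA k L' → ∀ m, m₀ ≤ m → ∀ i,
          hd k X (CohB1.tensorPow L m) i ≤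
              hd k X (CohB1.tensorMod (CohB1.tensorPow L m) (CohB1.tensorMod L' B)) i + K * (m + 1) ^ (n - 1) ∧
          hd k X (CohB1.tensorMod (CohB1.tensorPow L m) (CohB1.tensorMod L' B)) i ≤
              hd k X (CohB1.tensorPow L m) i + K * (m + 1) ^ (n - 1) := by
  haveI := Curves.GlobalSections.isNoetherian_of_proper k X
  haveI : HasExt.{u} X.Modules := hasExt_of_enoughInjectives _
  have hO := Snapper.Twist.isCoh_structureModule X
  have hM : PicF.IsInvertible M := TensorMod.TensorInv.isInvertible_of_tensor_iso (comm M L ≪≫ eLM)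
  obtain ⟨N₀, r₀, ι, hN₀, hcl, hιk, hpb⟩ := DepthTwist.Embed.exists_embedding (k := k) hA
  haveI := hcl
  obtain ⟨ω, t, hω, hdual, htors, -⟩ := ProjDualExt.Integral.exists_model ι hιk hdim
  haveI : ω.IsQuasicoherent := hω.1
  -- the fixed effective module
  obtain ⟨d₀, hd₀⟩ := Nakai.UnifAbs.exists_vanishing k hA hO
  obtain ⟨d₁, hd₁⟩ := Ample.GG.eventually_genAt_twist hA (Coh.structureModule X) hO
  let B := CohB1.tensorPow A₀ (d₀ + d₁)
  have hBi : PicF.IsInvertible B := isInvertible_tensorPow hA.1 _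
  obtain ⟨u, hu⟩ := Ample.GG.exists_genLocus_of_genAt hBi
    ((hd₁ (d₀ + d₁) (by omega) (genericPoint X)).of_iso (leftUnit _))
  have hh0 : ∀ L' : X.Modules, NTA k L' → 0 < hd k X (CohB1.tensorMod L' B) 0 := by
    intro L' hL'
    obtain ⟨d, hd'⟩ := Nakai.UnifAbs.exists_dim_bound k hA
    obtain ⟨d₂, hχ⟩ := Nakai.UnifAbs.exists_vanishing k hA (Ample.GG.isCoh_of_isInvertible hBi)
    have hv : ∀ L'' : X.Modules, NTA k L'' → ∀ q, 1 ≤ q →
        Subsingleton (Coh.HH X (CohB1.tensorMod L'' B) q) := fun L'' h q hq => by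
      haveI := (hd₀ L'' h).1 (d₀ + d₁) (by omega) q hq
      exact (Curves.LES.isoK k (tensorIso (Iso.refl L'') (rightUnit B)).symm q).injective.subsingleton
    have h := (hχ L' hL').2 d hd'
    rw [eulerCharLE_eq_hd_zero (hv L' hL'), eulerCharLE_eq_hd_zero (fun q hq => by
      haveI := hv _ nta_structure q hq
      exact (Curves.LES.isoK k (leftUnit B).symm q).injective.subsingleton)] at h
    obtain ⟨E⟩ := Nakai.HomBound.nonempty_homEquiv k B
    haveI := Snapper.Finite.cohFinite k X _ (Ample.GG.isCoh_of_isInvertible hBi) 0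
    haveI : Nontrivial (Coh.HH X B 0) :=
      ⟨E u, E 0, fun e => SurfInt.Pencil.ne_zero_of_mem_genLocus hBi hu (E.injective e)⟩
    have h2 : 0 < hd k X B 0 := Module.finrank_pos
    omega
  refine ⟨B, u, hBi, hu, ?_⟩
  -- the Koszul data
  obtain ⟨A, r, s, hAi, hs, hamp⟩ := exists_gen (k := k) hA hM
  have hA'i : PicF.IsInvertible (TensorMod.Dual.dual A) := isInvertible_dual hAi
  set A' := TensorMod.Dual.dual A
  let eA : CohB1.tensorMod A A' ≅ Coh.structureModule X := tensorDualIso hAi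
  let C : ℕ → X.Modules := fun j => CohB1.tensorMod M (CohB1.tensorPow A (j + 1))
  let D : ℕ → X.Modules := fun j => CohB1.tensorMod L (CohB1.tensorPow A' (j + 1))
  have hDi : ∀ j, PicF.IsInvertible (D j) := fun j =>
    isInvertible_tensorMod hL (isInvertible_tensorPow hA'i _)
  let eCD : ∀ j, CohB1.tensorMod (C j) (D j) ≅ Coh.structureModule X := fun j =>
    twistInv (comm M L ≪≫ eLM) eA (j + 1)
  let G' := CohB1.tensorMod ω (TensorMod.Dual.dual B)
  have hG' : Coh.IsCoh G' := isCoh_twist_right hω (isInvertible_dual hBi)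
  let iB : (tensorBy B).obj G' ≅ ω :=
    assoc _ _ _ ≪≫ tensorIso (Iso.refl _) (comm _ _ ≪≫ tensorDualIso hBi) ≪≫ rightUnit _
  let φ : G' ⟶ ω := (UnifReg.Hyperplane.mulS u).app G' ≫ iB.hom
  have hφ : Function.Bijective (Modules.StalkModule.stalkMapₗ φ (genericPoint X)) := by
    have h1 := (Modules.StalkModule.isIso_iff_stalkMapₗ_bijective iB.hom).1 inferInstance (genericPoint X)
    have h2 := UnifReg.Hyperplane.bijective_stalk_mulS u hu G'
    have h3 : Modules.StalkModule.stalkMapₗ φ (genericPoint X) =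
        (Modules.StalkModule.stalkMapₗ iB.hom (genericPoint X)).comp
          (Modules.StalkModule.stalkMapₗ ((UnifReg.Hyperplane.mulS u).app G') (genericPoint X)) :=
      Modules.StalkModule.stalkMapₗ_comp _ _ _
    rw [h3]
    exact h1.comp h2
  choose Kw hKw0 hKw using fun j : ℕ =>
    PosLin.AsympRank.Near.of_bijective (k := k) hdim hA (hamp j).1 hG' hω φ hφ 0
  choose Kf hKf using fun (j q : ℕ) => exists_bound_neg (k := k) (hamp j) (hDi j) (eCD j) q
    (Coh.structureModule X) hO
  choose Kg hKg using fun (j q : ℕ) => exists_bound_neg_nta (k := k) (hamp j) (hDi j) (eCD j) q B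
    (Ample.GG.isCoh_of_isInvertible hBi)
  choose Nf hNf using fun j : ℕ => exists_h0_nta (k := k) (hamp j) hG'
  let K₁ := ∑ j ∈ Finset.range r, ((∑ q ∈ Finset.range n, (Kf j q + Kg j q)) + Kw j)
  let K := (r + 1) * (2 ^ r * (2 * K₁))
  refine ⟨K + K, (Finset.range r).sup Nf + 1, fun h => ?_, fun L' hL' m hm i => ?_⟩
  · have hz : K₁ = 0 := Finset.sum_eq_zero fun j _ => by subst h; simp [hKw0 j rfl]
    simp [K, hz]
  -- the section
  have hNi : PicF.IsInvertible (CohB1.tensorMod L' B) := isInvertible_tensorMod hL'.1 hBi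
  set N := CohB1.tensorMod L' B
  obtain ⟨σ, hσ⟩ := Kodaira.exists_section (k := k) (hh0 L' hL')
  haveI : Mono σ := Curves.Positivity.mono_of_ne_zero (PicLoc.isInvertible_structureModule X) hNi hσ
  let ψ : Coh.structureModule X ⟶ CohB1.tensorMod (Coh.structureModule X) N :=
    (UnifReg.Hyperplane.mulS σ).app (Coh.structureModule X)
  haveI : Mono ψ := by
    haveI : Mono (TensorMod.Basic.tmap (𝟙 (Coh.structureModule X)) σ) :=
      (Snapper.Twist.twistSeq_shortExact (PicLoc.isInvertible_structureModule X)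
        (Devissage.Basic.exists_ses_mono σ)).mono_f
    exact inferInstanceAs (Mono ((rightUnit _).inv ≫ TensorMod.Basic.tmap (𝟙 _) σ))
  have hON := isCoh_twist_right hO hNi
  have hQ : Coh.IsCoh (cokernel ψ) := CohBasics.Closure.isCoh_cokernel ψ hO.1 hON
  have hη : genericPoint X ∉ CohB1.support (cokernel ψ) := fun hx =>
    (UnifReg.Hyperplane.support_coker σ _ hx).1 (TopVanish.genericPoint_mem_genLocus hNi hσ)
  let S₀ : ShortComplex X.Modules := ShortComplex.mk ψ (cokernel.π ψ) (cokernel.condition ψ)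
  have hS₀ : S₀.ShortExact := Devissage.Basic.exists_ses_mono ψ
  let Qd := cokernel ψ
  -- the layers
  set E := 2 * K₁ * (m + 1) ^ (n - 1) with hE
  have hlayer : ∀ j, j < r → ∀ q, hd k X (CohB1.tensorMod (CohB1.tensorPow (D j) m) Qd) q ≤ E := by
    intro j hj
    have hDm := isInvertible_tensorPow (hDi j) m
    have hSj := Snapper.Twist.twistSeq_shortExact hDm hS₀
    have c1 := Snapper.Twist.isCoh_twist hDm hO
    have c2 := Snapper.Twist.isCoh_twist hDm hON
    have c3 := Snapper.Twist.isCoh_twist hDm hQ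
    have hη3 : genericPoint X ∉
        CohB1.support (CohB1.tensorMod (CohB1.tensorPow (D j) m) Qd) := by
      rw [Snapper.Twist.support_twist hDm]; exact hη
    obtain ⟨htop, hpen⟩ := hd_top_quot (k := k) hdim hdual htors hSj c1 c2 c3 hη3
    have hjK : (∑ q ∈ Finset.range n, (Kf j q + Kg j q)) + Kw j ≤ K₁ :=
      Finset.single_le_sum (fun j _ => Nat.zero_le ((∑ q ∈ Finset.range n, (Kf j q + Kg j q)) + Kw j))
        (Finset.mem_range.2 hj)
    have hlow : ∀ q, q < n →
        hd k X (CohB1.tensorMod (CohB1.tensorPow (D j) m) (Coh.structureModule X)) q ≤ K₁ * (m + 1) ^ (n - 1) ∧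
        hd k X (CohB1.tensorMod (CohB1.tensorPow (D j) m) (CohB1.tensorMod (Coh.structureModule X) N)) q ≤
          K₁ * (m + 1) ^ (n - 1) := fun q hq => by
      have h0 := Finset.single_le_sum (fun q _ => Nat.zero_le (Kf j q + Kg j q)) (Finset.mem_range.2 hq)
      refine ⟨(hd_congr (k := k) (comm _ _) q).le.trans ((hKf j q m).trans
          (Nat.mul_le_mul (by omega) (Nat.pow_le_pow_right m.succ_pos (by omega)))), ?_⟩
      exact (hd_congr (k := k) (tensorIso (Iso.refl _) (leftUnit N) ≪≫ comm _ _) q).le.trans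
        ((hKg j q L' hL' m).trans
          (Nat.mul_le_mul (by omega) (Nat.pow_le_pow_right m.succ_pos (by omega))))
    have htop1 : hd k X (CohB1.tensorMod (CohB1.tensorPow (D j) m) (Coh.structureModule X)) n =
        hseq k X ω (C j) 0 m :=
      (hd_congr (k := k) (rightUnit _) n).trans (hd_top_eq hdual hDm
        ((powTensor (D j) (C j) m).symm ≪≫ powIso (comm _ _ ≪≫ eCD j) m ≪≫ powUnit X m))
    have htop2 : hd k X (CohB1.tensorMod (CohB1.tensorPow (D j) m)
        (CohB1.tensorMod (Coh.structureModule X) N)) n = hseq k X G' (C j) 0 m := by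
      refine (hd_congr (k := k) (tensorIso (Iso.refl _) (leftUnit N)) n).trans ?_
      refine (hd_top_eq hdual (isInvertible_tensorMod hDm hNi)
        (C := CohB1.tensorMod (CohB1.tensorPow (C j) m)
          (CohB1.tensorMod (TensorMod.Dual.dual L') (TensorMod.Dual.dual B))) ?_).trans ?_
      · exact middleFour _ _ _ _ ≪≫ tensorIso
          ((powTensor (D j) (C j) m).symm ≪≫ powIso (comm _ _ ≪≫ eCD j) m ≪≫ powUnit X m)
          (middleFour _ _ _ _ ≪≫ tensorIso (tensorDualIso hL'.1) (tensorDualIso hBi) ≪≫ leftUnit _) ≪≫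
          leftUnit _
      refine (hd_congr (k := k) ?_ 0).trans
        ((hNf j _ (nta_dual hL') m ((Finset.le_sup (Finset.mem_range.2 hj)).trans (by omega))).trans
          (hd_congr (k := k) (comm _ _) 0))
      exact tensorIso (Iso.refl ω) ((assoc _ _ _).symm ≪≫ tensorIso (comm _ _) (Iso.refl _) ≪≫ assoc _ _ _) ≪≫
        (assoc _ _ _).symm ≪≫ tensorIso (comm _ _) (Iso.refl _) ≪≫ assoc _ _ _ ≪≫
        tensorIso (Iso.refl _) ((assoc _ _ _).symm ≪≫ tensorIso (comm _ _) (Iso.refl _) ≪≫ assoc _ _ _)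
    have hw : hseq k X ω (C j) 0 m ≤ hseq k X G' (C j) 0 m + K₁ * (m + 1) ^ (n - 1) :=
      (hKw j m).2.trans (Nat.add_le_add_left (Nat.mul_le_mul_right _ (by omega)) _)
    intro q
    rcases lt_trichotomy q n with hq | hq | hq
    · rcases Nat.lt_or_ge (q + 1) n with hq' | hq'
      · refine (hd_right_le (k := k) hSj c1 c2 c3 q).trans ?_
        have h1 := (hlow q hq).2
        have h2 := (hlow (q + 1) hq').1
        rw [hE, Nat.mul_assoc, Nat.two_mul]
        exact Nat.add_le_add h1 h2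
      · have h1 := (hlow q hq).2
        have h2 := hpen q (by omega)
        simp only [Snapper.Twist.twistSeq, S₀] at h2 ⊢
        rw [hE, Nat.mul_assoc, Nat.two_mul]
        change hd k X (CohB1.tensorMod (CohB1.tensorPow (D j) m) Qd) q + _ ≤ _ + _ at h2
        omega
    · subst hq
      exact htop.le.trans (Nat.zero_le _)
    · haveI := Snapper.Chi.subsingleton_HH_of_lt hdim.le
        (CohB1.tensorMod (CohB1.tensorPow (D j) m) Qd) hq
      exact Module.finrank_zero_of_subsingleton.le.trans (Nat.zero_le _)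
  -- the resolution
  let P := CohB1.tensorPow A m
  let R := CohB1.tensorPow A' m
  let eRP : CohB1.tensorMod R P ≅ Coh.structureModule X :=
    (powTensor A' A m).symm ≪≫ powIso (comm _ _ ≪≫ eA) m ≪≫ powUnit X m
  haveI : (tensorBy P).IsEquivalence := (CategoryTheory.Equivalence.mk (tensorBy P) (tensorBy R)
    (ProjCoh.Coherent.cancelNat (comm P R ≪≫ eRP)).symm
    (ProjCoh.Coherent.cancelNat eRP)).isEquivalence_functor
  haveI : (tensorBy P).Additive := Functor.additive_of_preserves_binary_products _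
  let s' : Fin r → (Coh.structureModule X ⟶ P) := fun t => SecTwist.powHom (s t) m
  have hs' : ∀ x : X, ∃ t, x ∈ CohB1.genLocus P (s' t) := fun x => by
    obtain ⟨t, ht⟩ := hs x
    exact ⟨t, by rw [Ample.GenLocus.genLocus_powHom hAi (s t) m (by omega)]; exact ht⟩
  let Y := CohB1.tensorMod (CohB1.tensorPow L m) Qd
  let M0 := CohB1.tensorMod Y (CohB1.tensorPow R r)
  let Kx := kcx s' M0
  have hLm := isInvertible_tensorPow hL m
  obtain ⟨etop⟩ := exists_kcx_top s' M0
  obtain ⟨etw⟩ := nonempty_pow_twist eRP r 0 Y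
  let e0 : Kx.X 0 ≅ Y :=
    etop ≪≫ (ProjKoszul.Iterate.pow (tensorBy P) r).mapIso
      (tensorIso (Iso.refl _) (powCongr R (zero_add r).symm)) ≪≫ etw ≪≫ rightUnit _
  have hneg : ∀ l : ℤ, l < 0 → Coh.IsCoh (Kx.X l) ∧ ∀ q, hd k X (Kx.X l) q ≤ 2 ^ r * E := by
    refine kcx_induction s' (fun e Z => Coh.IsCoh Z ∧ ∀ q, hd k X Z q ≤ e)
      (fun e Z h => ⟨isCoh_of_isZero (k := k) h, fun q => ?_⟩)
      (fun e Z W i h => ⟨CohBasics.Closure.isCoh_of_iso i h.1, fun q => (hd_congr i q).symm.le.trans (h.2 q)⟩)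
      (fun a b Z W h h' => ⟨CohBasics.Closure.isCoh_biprod h.1 h'.1, fun q => ?_⟩) M0 E fun l hl => ?_
    · haveI := CohBound.subsingleton_HH_isZero (k := k) h q
      exact Module.finrank_zero_of_subsingleton.le.trans (Nat.zero_le _)
    · exact (hd_mid_le (k := k) (S := ShortComplex.mk (biprod.inl : Z ⟶ Z ⊞ W) biprod.snd biprod.inl_snd)
        (ShortComplex.Splitting.ofHasBinaryBiproduct Z W).shortExact h.1
        (CohBasics.Closure.isCoh_biprod h.1 h'.1) h'.1 q).trans (Nat.add_le_add (h.2 q) (h'.2 q))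
    · obtain ⟨j, hj⟩ : ∃ j, r = j + 1 + l := ⟨r - l - 1, by omega⟩
      obtain ⟨i'⟩ := nonempty_pow_twist eRP l (j + 1) Y
      let ej : CohB1.tensorMod (CohB1.tensorPow (D j) m) Qd ≅
          (ProjKoszul.Iterate.pow (tensorBy P) l).obj M0 :=
        tensorIso (powTensor L _ m) (Iso.refl _) ≪≫ assoc _ _ _ ≪≫
          tensorIso (Iso.refl _) (comm _ _) ≪≫ (assoc _ _ _).symm ≪≫
          tensorIso (Iso.refl _) (powMul A' (j + 1) m ≪≫
            powCongr A' (Nat.mul_comm _ _) ≪≫ (powMul A' m (j + 1)).symm) ≪≫ i'.symm ≪≫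
        (ProjKoszul.Iterate.pow (tensorBy P) l).mapIso (tensorIso (Iso.refl _) (powCongr R hj.symm))
      exact ⟨CohBasics.Closure.isCoh_of_iso ej
          (Snapper.Twist.isCoh_twist (isInvertible_tensorPow (hDi j) m) hQ),
        fun q => (hd_congr ej q).symm.le.trans (hlayer j (by omega) q)⟩
  have hYc : Coh.IsCoh Y := Snapper.Twist.isCoh_twist hLm hQ
  have hcoh : ∀ l, Coh.IsCoh (Kx.X l) := fun l => by
    rcases lt_trichotomy l 0 with hl | rfl | hl
    · exact (hneg l hl).1
    · exact CohBasics.Closure.isCoh_of_iso e0.symm hYc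
    · exact isCoh_of_isZero (k := k) (isZero_kcx s' M0 l (Or.inr hl))
  haveI := ProjKoszul.Chase.isIso_kernel_ι_zero Kx (isZero_kcx s' M0 _ (Or.inr (by norm_num)))
  have hY : ∀ q, hd k X Y q ≤ K * (m + 1) ^ (n - 1) := fun q => by
    refine (hd_congr (k := k) (asIso (kernel.ι (Kx.d 0 (0 + 1))) ≪≫ e0) q).symm.le.trans
      ((hd_cycles_le Kx (exactAt_kcx s' hs' M0) hcoh (fun l hl => (hneg l hl).2) (-(r : ℤ))
        (fun l hl => isZero_kcx s' M0 l (Or.inl hl)) (r + 1) 0 (by push_cast; omega) le_rfl q).trans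
        (le_of_eq ?_))
    simp only [K, hE]; ring
  -- conclusion
  have hSL := Snapper.Twist.twistSeq_shortExact hLm hS₀
  have c1 := Snapper.Twist.isCoh_twist hLm hO
  have c2 := Snapper.Twist.isCoh_twist hLm hON
  have e1 := hd_congr (k := k) (rightUnit (CohB1.tensorPow L m)) i
  have e2 := hd_congr (k := k) (tensorIso (Iso.refl (CohB1.tensorPow L m)) (leftUnit N)) i
  have hm1 := hd_mid_le (k := k) hSL c1 c2 hYc i
  have hm2 := hd_left_le (k := k) hSL c1 c2 hYc i
  have hy1 := hY i
  have hy2 := hY (i - 1)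
  simp only [Snapper.Twist.twistSeq, S₀] at hm1 hm2
  rw [add_mul]
  change hd k X (CohB1.tensorMod _ (CohB1.tensorMod _ N)) i ≤
    hd k X (CohB1.tensorMod _ (Coh.structureModule X)) i + hd k X Y i at hm1
  change hd k X (CohB1.tensorMod _ (Coh.structureModule X)) i ≤
    hd k X (CohB1.tensorMod _ (CohB1.tensorMod _ N)) i + hd k X Y (i - 1) at hm2
  omega

/-- **`ĥ^i` is a numerical invariant.** -/
theorem hhat_tensor_nta (hdim : topologicalKrullDim X = n) {A₀ L L' : X.Modules}
    (hA : CohB1.IsAmple A₀) (hL : PicF.IsInvertible L) (hL' : NTA k L') (i : ℕ) :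
    W4c5asymptcohfn.hhat k X n i (CohB1.tensorMod L L') = W4c5asymptcohfn.hhat k X n i L := by
  haveI := Curves.GlobalSections.isNoetherian_of_proper k X
  obtain ⟨B, u, hBi, hu, K, m₀, hK0, hK⟩ :=
    exists_bound_numInv (k := k) hdim hA hL (tensorDualIso hL)
  have hLP := isInvertible_tensorMod hL hL'.1
  obtain ⟨K₂, hK₂0, hK₂⟩ := AsympTwist.near_mul (k := k) hdim hA hLP
    (PicLoc.isInvertible_structureModule X) hBi u hu i
  obtain ⟨b, hb⟩ := exists_bound_dim (k := k) hdim hA hL (Snapper.Twist.isCoh_structureModule X) i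
  obtain ⟨b', hb'⟩ := exists_bound_dim (k := k) hdim hA hLP (Snapper.Twist.isCoh_structureModule X) i
  rw [hhat_eq, hhat_eq]
  have key : ∀ m, m₀ ≤ m →
      hd k X (CohB1.tensorPow (CohB1.tensorMod L L') m) i ≤
          hd k X (CohB1.tensorPow L m) i + (K + K₂) * (m + 1) ^ (n - 1) ∧
      hd k X (CohB1.tensorPow L m) i ≤
          hd k X (CohB1.tensorPow (CohB1.tensorMod L L') m) i + (K + K₂) * (m + 1) ^ (n - 1) := by
    intro m hm
    have h1 := hK _ (nta_pow hL' m) m hm i
    have h2 := hK₂ m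
    have e0 := hd_congr (k := k) (leftUnit (CohB1.tensorPow (CohB1.tensorMod L L') m)) i
    have e2 := hd_congr (k := k) (comm _ _ ≪≫ tensorIso (powTensor L L' m) (leftUnit B) ≪≫ assoc _ _ _ :
      CohB1.tensorMod (CohB1.tensorMod (Coh.structureModule X) B)
        (CohB1.tensorPow (CohB1.tensorMod L L') m) ≅ _) i
    simp only [hseq] at h2
    rw [add_mul]
    omega
  exact limsup_eq_of_le (K := K + K₂) (fun h => by rw [hK0 h, hK₂0 h])
    (fun m => (hd_congr (k := k) (leftUnit _).symm i).le.trans (hb' m))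
    (fun m => (hd_congr (k := k) (leftUnit _).symm i).le.trans (hb m))
    (eventually_atTop.2 ⟨m₀, fun m hm => (key m hm).1⟩)
    (eventually_atTop.2 ⟨m₀, fun m hm => (key m hm).2⟩)

end Main

end Groth.Agent.Lib.DualAsymp96
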